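import Cfsg.Agent.Mrg.Omega.OM.SwapK.OffW
import Cfsg.Agent.Mrg.Omega.OM.SwapV.Base
import Cfsg.Agent.Mrg.Omega.OM.SwapV.Main
import Cfsg.Agent.Mrg.Omega.OM.SwapV.Q.Main

section


/-!
# THEOREM SW at the top level `(Q, V)`, `Q = C_S(V)` weakly closed, `Ω₁Z(Q) = V` (box R, one class)

`Z_J = ZK S Q = Ω₁Z(nxt S Q)`, `B = BK S Q = C_S(Z_J)`.

* `LtV S V Q` : the level; `OffR S V Q` : for `B ≤ T ≤ S`, `F ∈ P(T)`, `F ≤ C_G(Z(S))`, `J(S) ≤ O₂(F)`, `Q ≰ O₂(F)`,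
  `O²(F)` moves `Z_J`: a best offender `A ≤ T` on `⟨V^F⟩` is not in `O₂(F)` (THEOREM QW);
* `LtV.off` : the same for all 2-groups `T ≥ B`, `F ≤ C_G(Ω₁Z(S)^g)`, `g ∈ N_G(B)`;
* `LtV.crB` : the `q`-free ground frame `CrB` (with `fixPt`);
* `LtV.fam` : the families of offenders of the pairs.
-/

set_option autoImplicit false
set_option linter.unusedSectionVars false

namespace Cfsg.Agent.Omega.NOThreeL.QWR.Sw

open Subgroup Cfsg Cfsg.Agent.ZN.ChoiceBase Cfsg.Agent.ZN.ChoiceSit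
open Cfsg.Agent.ZN (jj zj bau zc zl o2)
open Cfsg.Agent.MinSimple.MinParabolic (IsMinPar)
open Cfsg.Agent.MinSimple.VModule (oddGen oddGen_le)
open Cfsg.Agent.Omega.NO1.BestOff (Best)
open Cfsg.Agent.Omega.NO3S.Level (lev Lev lev_isLev BO nxt)
open Cfsg.Agent.Omega.OM.LevD (LB)
open Cfsg.Agent.Omega.OM.SwapK (WL BK ZK best_of_le)
open Cfsg.Agent.Omega.OM.SwapV (Quiet Pair CrB CrA FmX PF exists_cj_S)
open Cfsg.Agent.Omega.OM.Swap.Fam (Fm BF fm_AA fm_best)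
open Cfsg.Agent.Omega.OM (LevD.norm_of_wc)

universe u

variable {G : Type u} [Group G] [Finite G]

/-- The level `(Q, V)`. -/
structure LtV (S : Sylow 2 G) (V Q : Subgroup G) : Prop where
  wl : WL S Q
  zcQ : zc Q = V
  char2 : IsCharacteristicTwoType G
  low : V ≤ o2 (centralizer (zc (S : Subgroup G) : Set G))
  noff : ∀ T : Subgroup G, IsPGroup 2 T → BK (S : Subgroup G) Q ≤ T → ∀ f : G, cj f V ≤ T → V ≤ cj f T →
    ∀ x ∈ V, ∀ y ∈ V, x * (f * y * f⁻¹) = f * y * f⁻¹ * x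

/-- **THEOREM QW** as a hypothesis. -/
def OffR (S : Sylow 2 G) (V Q : Subgroup G) : Prop :=
  ∀ T F : Subgroup G, Syl T F → BK (S : Subgroup G) Q ≤ T → T ≤ (S : Subgroup G) → IsMinPar T F →
    F ⊓ centralizer (o2 F : Set G) ≤ o2 F → F ≤ centralizer (zc (S : Subgroup G) : Set G) →
    jj (S : Subgroup G) ≤ o2 F → ¬ Q ≤ o2 F → ¬ oddGen F ≤ centralizer (ZK (S : Subgroup G) Q : Set G) →
    ∃ A ≤ T, Best (NoFF.Basic.V V F) A ∧ ¬ A ≤ o2 F

/-! ### Conjugation -/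

omit [Finite G] in
theorem isMinPar_cj {T P : Subgroup G} (g : G) (h : IsMinPar T P) : IsMinPar (cj g T) (cj g P) where
  le := cj_mono g h.le
  not_le := by
    intro h1
    rw [← cj_normalizer, cj_le_iff, cj_inv_cj] at h1
    exact h.not_le h1
  exists_max := by
    obtain ⟨N, hN, hmax⟩ := h.exists_max
    refine ⟨cj g N, lt_of_le_of_ne (cj_mono g hN.le) fun e => hN.ne ?_, fun K hK hKP => ?_⟩
    · rw [← cj_inv_cj g N, e, cj_inv_cj]
    · have h1 : K = cj g (cj g⁻¹ K) := (cj_cj_inv g K).symm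
      rw [h1]
      refine cj_mono g (hmax _ ?_ (lt_of_le_of_ne ?_ fun e => hKP.ne ?_))
      · rw [← cj_le_iff]; exact hK
      · have h2 := cj_mono g⁻¹ hKP.le
        rwa [cj_inv_cj] at h2
      · rw [h1, e]

omit [Finite G] in
theorem oddGen_cj (g : G) (X : Subgroup G) : oddGen (cj g X) = cj g (oddGen X) := by
  unfold cj oddGen
  rw [MonoidHom.map_closure]
  congr 1
  ext x
  constructor
  · rintro ⟨⟨y, hy, rfl⟩, hy'⟩
    refine ⟨y, ⟨hy, ?_⟩, rfl⟩
    have : orderOf ((MulAut.conj g).toMonoidHom y) = orderOf y := orderOf_injective _ (MulAut.conj g).injective y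
    rwa [this] at hy'
  · rintro ⟨y, ⟨hy, hy'⟩, rfl⟩
    refine ⟨⟨y, hy, rfl⟩, ?_⟩
    have : orderOf ((MulAut.conj g).toMonoidHom y) = orderOf y := orderOf_injective _ (MulAut.conj g).injective y
    rwa [this]

omit [Finite G] in
theorem syl_cj {T X : Subgroup G} (g : G) (h : Syl T X) : Syl (cj g T) (cj g X) := by
  refine ⟨cj_mono g h.1, isPGroup_cj g h.2.1, fun Q hQ h2 hle => ?_⟩
  have h3 : cj g⁻¹ Q ≤ X := by
    have := cj_mono g⁻¹ hQ
    rwa [cj_inv_cj] at this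
  have h4 : T ≤ cj g⁻¹ Q := by
    have := cj_mono g⁻¹ hle
    rwa [cj_inv_cj] at this
  have h5 := h.2.2 _ h3 (isPGroup_cj g⁻¹ h2) h4
  rw [← h5, cj_cj_inv]

omit [Finite G] in
theorem cj_V (n : G) (X Y : Subgroup G) : cj n (NoFF.Basic.V X Y) = NoFF.Basic.V (cj n X) (cj n Y) := by
  have key : ∀ (n : G) (X Y : Subgroup G), NoFF.Basic.V (cj n X) (cj n Y) ≤ cj n (NoFF.Basic.V X Y) := by
    intro n X Y
    refine NoFF.Basic.V_le fun p hp => ?_
    rw [mem_cj] at hp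
    have h1 : cj (n⁻¹ * p * n) X ≤ NoFF.Basic.V X Y := NoFF.Basic.Z_le_V hp
    have h2 := cj_mono n h1
    rw [cj_cj] at h2
    have e : n * (n⁻¹ * p * n) = p * n := by group
    rw [e, ← cj_cj] at h2
    exact h2
  refine le_antisymm ?_ (key n X Y)
  have h1 := cj_mono n (key n⁻¹ (cj n X) (cj n Y))
  rwa [cj_inv_cj, cj_inv_cj, cj_cj_inv] at h1

omit [Finite G] in
/-- conjugates of best offenders -/
theorem best_cj {V A : Subgroup G} (h : Best V A) (g : G) : Best (cj g V) (cj g A) := by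
  have hcc : ∀ X : Subgroup G, centralizer ((cj g X : Subgroup G) : Set G) = cj g (centralizer (X : Set G)) :=
    fun X => (cj_centralizer g X).symm
  refine ⟨⟨fun a ha => ?_, fun a ha b hb => ?_⟩, fun F h2 h1 => ?_⟩
  · rw [hcc, mem_cj]
    have := h.sq _ (mem_cj.1 ha)
    have e : (g⁻¹ * a * g) ^ 2 = g⁻¹ * a ^ 2 * g := by rw [pow_two, pow_two]; group
    rwa [e] at this
  · rw [hcc, mem_cj]
    have := h.comm _ (mem_cj.1 ha) _ (mem_cj.1 hb)
    have e : g⁻¹ * a * g * (g⁻¹ * b * g) * (g⁻¹ * a * g)⁻¹ * (g⁻¹ * b * g)⁻¹ = g⁻¹ * (a * b * a⁻¹ * b⁻¹) * g := by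
      group
    rwa [e] at this
  · have e0 : ∀ X : Subgroup G, cj g (cj g⁻¹ X) = X := fun X => by rw [cj_cj, mul_inv_cancel, cj_one]
    have e0' : ∀ X : Subgroup G, cj g⁻¹ (cj g X) = X := fun X => by rw [cj_cj, inv_mul_cancel, cj_one]
    have h3 : A ⊓ centralizer (V : Set G) ≤ cj g⁻¹ F := by
      rw [hcc, ← cj_inf] at h1
      have := cj_mono g⁻¹ h1
      rwa [e0'] at this
    have h4 : cj g⁻¹ F ≤ A := by
      have := cj_mono g⁻¹ h2
      rwa [e0'] at this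
    have h5 := h.max _ h4 h3
    have e2 : Nat.card ↥(cj g V ⊓ centralizer (F : Set G)) = Nat.card ↥(V ⊓ centralizer (cj g⁻¹ F : Set G)) := by
      conv_lhs => rw [← e0 F, hcc, ← cj_inf, card_cj]
    rw [e2, hcc, ← cj_inf, card_cj, card_cj, ← card_cj g⁻¹ F]
    exact h5

namespace LtV

variable {S : Sylow 2 G} {V Q : Subgroup G} (h : LtV S V Q)
include h

theorem lb : LB S (nxt (S : Subgroup G) Q) (BK (S : Subgroup G) Q) (ZK (S : Subgroup G) Q) := h.wl.lb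

theorem wcB : OM.WeakCl.WC (BK (S : Subgroup G) Q) := h.wl.wcB

theorem VQ : V ≤ Q := by rw [← h.zcQ]; exact Cfsg.Agent.MinSimple.VModule.zc_le _

theorem QB : Q ≤ BK (S : Subgroup G) Q := h.wl.K₀B

theorem VB : V ≤ BK (S : Subgroup G) Q := h.VQ.trans h.QB

theorem cV {a v : G} (ha : a ∈ Q) (hv : v ∈ V) : a * v = v * a := by
  rw [← h.zcQ] at hv
  exact (mem_zc.1 hv).2.2 a ha

theorem elemV : IsElementaryAbelian 2 V := by
  rw [← h.zcQ]
  exact OM.SwapL.zc_elab Q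

theorem ZV : ZK (S : Subgroup G) Q ≤ V := by
  rw [← h.zcQ]
  exact h.wl.lev.zc_le_zc (NO3S.Level.le_nxt h.wl.lev.le) (NO3S.Level.nxt_le _ _)

theorem zcS : zc (S : Subgroup G) ≤ ZK (S : Subgroup G) Q := h.wl.lev.next.zc_le

/-- `N_G(B) ≤ N_G(V)` -/
theorem nV {g : G} (hg : g ∈ normalizer (BK (S : Subgroup G) Q : Set G)) : cj g V = V := by
  have h1 := NO3S.Level.normalizer_le_zc _ (h.wl.norm_B hg)
  rw [h.zcQ] at h1
  exact cj_eq_of_mem_normalizer h1

theorem nQ {g : G} (hg : g ∈ normalizer (BK (S : Subgroup G) Q : Set G)) : cj g Q = Q :=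
  cj_eq_of_mem_normalizer (h.wl.norm_B hg)

theorem nZK {g : G} (hg : g ∈ normalizer (BK (S : Subgroup G) Q : Set G)) :
    cj g (ZK (S : Subgroup G) Q) = ZK (S : Subgroup G) Q :=
  cj_eq_of_mem_normalizer (h.lb.norm_B_le hg)

theorem jB : jj (S : Subgroup G) ≤ BK (S : Subgroup G) Q := h.wl.lev.jjle.trans h.QB

/-- `N_G(B) ≤ N_G(J(S))` -/
theorem nj {g : G} (hg : g ∈ normalizer (BK (S : Subgroup G) Q : Set G)) :
    cj g (jj (S : Subgroup G)) = jj (S : Subgroup G) :=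
  OM.LevD.norm_of_wc (NO3S.Level.wc_jj S) h.lb.Bp h.jB hg

/-- a conjugate of `B` inside `S` is `B` -/
theorem mem_nB {g : G} (hg : cj g (BK (S : Subgroup G) Q) ≤ (S : Subgroup G)) :
    g ∈ normalizer (BK (S : Subgroup G) Q : Set G) :=
  mem_normalizer_iff_cj.2 (h.wcB _ S.isPGroup' h.lb.BS _ hg)

/-- a 2-group over `B` lies in `S^g`, `g ∈ N_G(B)`, and `Ω₁Z(S)^g ≤ Ω₁Z(T)`. -/
theorem exists_cj {T : Subgroup G} (hT : IsPGroup 2 T) (hB : BK (S : Subgroup G) Q ≤ T) :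
    ∃ g ∈ normalizer (BK (S : Subgroup G) Q : Set G), T ≤ cj g (S : Subgroup G) ∧ cj g (zc (S : Subgroup G)) ≤ zc T := by
  obtain ⟨g, hg, hle⟩ := exists_cj_S h.wcB h.lb.BS hT hB
  refine ⟨g, hg, hle, ?_⟩
  intro z hz
  have h6 := cj_mono g h.zcS hz
  rw [h.nZK hg] at h6
  have h4 : z ∈ T := hB (h.lb.ZB h6)
  rw [← NO3S.Level.zc_cj] at hz
  obtain ⟨h5, h6, h7⟩ := mem_zc.1 hz
  exact mem_zc.2 ⟨h4, h6, fun y hy => h7 y (hle hy)⟩

/-- **(C)** `B ≤ T ≤ F ≤ C_G(Z^g)`, `g ∈ N_G(B)`: some `x ∈ N_G(B)` has `T ≤ S^x`, `Z^x = Z^g`. -/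
theorem exists_both {T F : Subgroup G} (hT : IsPGroup 2 T) (hB : BK (S : Subgroup G) Q ≤ T) (hTF : T ≤ F) {g : G}
    (hF : F ≤ centralizer (cj g (zc (S : Subgroup G)) : Set G)) :
    ∃ x ∈ normalizer (BK (S : Subgroup G) Q : Set G), T ≤ cj x (S : Subgroup G) ∧
      F ≤ centralizer (cj x (zc (S : Subgroup G)) : Set G) := by
  have hS : Syl (cj g (S : Subgroup G)) (centralizer (cj g (zc (S : Subgroup G)) : Set G)) := by
    have h1 : Syl (S : Subgroup G) (centralizer (zc (S : Subgroup G) : Set G)) :=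
      ⟨Cfsg.Agent.MinSimple.VModule.le_centralizer_zc _, S.isPGroup', fun Q _ hQ hle => S.is_maximal' hQ hle⟩
    have h2 := syl_cj g h1
    rwa [cj_centralizer] at h2
  obtain ⟨T₁, hT₁, hle⟩ := exists_syl hT (hTF.trans hF)
  obtain ⟨c, hc, rfl⟩ := syl_conj hS hT₁
  rw [cj_cj] at hle
  refine ⟨c * g, ?_, hle, ?_⟩
  · have h1 : cj (c * g)⁻¹ (BK (S : Subgroup G) Q) ≤ (S : Subgroup G) := by
      have := cj_mono (c * g)⁻¹ (hB.trans hle)
      rwa [cj_inv_cj] at this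
    have h2 := inv_mem (h.mem_nB h1)
    rwa [inv_inv] at h2
  · rw [← cj_cj, cj_eq_of_mem_normalizer (centralizer_le_normalizer _ hc)]
    exact hF

/-- **`OffR` for all 2-groups `T ≥ B`.** -/
theorem off (ho : OffR S V Q) {T F : Subgroup G} (hT : Syl T F) (hB : BK (S : Subgroup G) Q ≤ T) (hmin : IsMinPar T F)
    (hc : F ⊓ centralizer (o2 F : Set G) ≤ o2 F) {g : G}
    (hF : F ≤ centralizer (cj g (zc (S : Subgroup G)) : Set G)) (hj : jj (S : Subgroup G) ≤ o2 F) (hQ : ¬ Q ≤ o2 F)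
    (hmv : ¬ oddGen F ≤ centralizer (ZK (S : Subgroup G) Q : Set G)) :
    ∃ A ≤ T, Best (NoFF.Basic.V V F) A ∧ ¬ A ≤ o2 F := by
  obtain ⟨x, hx, hTx, hFx⟩ := h.exists_both hT.2.1 hB hT.1 hF
  have hx' := inv_mem hx
  have e2 : cj x⁻¹ (BK (S : Subgroup G) Q) = BK (S : Subgroup G) Q := cj_eq_of_mem_normalizer hx'
  have key := ho (cj x⁻¹ T) (cj x⁻¹ F) (syl_cj _ hT) ?_ ?_ (isMinPar_cj _ hmin) ?_ ?_ ?_ ?_ ?_
  · obtain ⟨A, hA, hb, hn⟩ := key
    refine ⟨cj x A, ?_, ?_, fun hle => hn ?_⟩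
    · have := cj_mono x hA
      rwa [cj_cj_inv] at this
    · have h1 := best_cj hb x
      rw [cj_V, cj_cj_inv, h.nV hx] at h1
      exact h1
    · have h1 := cj_mono x⁻¹ hle
      rw [cj_inv_cj, ← pCore_cj] at h1
      exact h1
  · have h1 := cj_mono x⁻¹ hB
    rwa [e2] at h1
  · have h1 := cj_mono x⁻¹ hTx
    rwa [cj_inv_cj] at h1
  · have h1 := cj_mono x⁻¹ hc
    rwa [cj_inf, cj_centralizer, ← pCore_cj] at h1
  · have h1 := cj_mono x⁻¹ hFx
    rwa [cj_centralizer, cj_inv_cj] at h1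
  · have h1 := cj_mono x⁻¹ hj
    rwa [h.nj hx', ← pCore_cj] at h1
  · intro hle
    apply hQ
    have h1 := cj_mono x hle
    rwa [h.nQ hx, pCore_cj, cj_cj_inv] at h1
  · intro hle
    apply hmv
    have h1 := cj_mono x hle
    rwa [oddGen_cj, cj_cj_inv, cj_centralizer, h.nZK hx] at h1

/-- `V ≤ O₂(Y)` if `Y` centralises `Ω₁(Z(T))`, `B ≤ T ≤ Y`. -/
theorem V_le_o2 {T Y : Subgroup G} (hT : IsPGroup 2 T)
    (hB : BK (S : Subgroup G) Q ≤ T) (hTY : T ≤ Y) (hY : Y ≤ centralizer (zc T : Set G)) : V ≤ o2 Y := by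
  obtain ⟨g, hgN, -, h3⟩ := h.exists_cj hT hB
  have h4 : Y ≤ centralizer (cj g (zc (S : Subgroup G)) : Set G) := hY.trans (centralizer_le h3)
  have h5 : V ≤ o2 (centralizer (cj g (zc (S : Subgroup G)) : Set G)) := by
    have h6 := cj_mono g h.low
    rw [h.nV hgN, ← pCore_cj, cj_centralizer] at h6
    exact h6
  have h6 : V ≤ o2 (centralizer (cj g (zc (S : Subgroup G)) : Set G)) ⊓ Y :=
    le_inf h5 ((h.VB.trans hB).trans hTY)
  refine h6.trans (le_o2 ((isPGroup_o2 _).to_le inf_le_left) inf_le_right ?_)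
  intro y hy
  rw [mem_normalizer_iff_cj, cj_inf, cj_eq_of_mem_normalizer (Cfsg.Agent.MinSimple.VModule.le_normalizer_o2 _ (h4 hy)),
    cj_eq_of_mem_normalizer (le_normalizer hy)]

/-- `⟨V^F⟩` is elementary abelian if `V ≤ O₂(F)`. -/
theorem elab_VF {T F : Subgroup G} (hT : Syl T F) (hB : BK (S : Subgroup G) Q ≤ T) (hV : V ≤ o2 F) :
    IsElementaryAbelian 2 (NoFF.Basic.V V F) := by
  have hcom : ∀ f ∈ F, ∀ x ∈ V, ∀ y ∈ V, x * (f * y * f⁻¹) = f * y * f⁻¹ * x := by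
    intro f hf x hx y hy
    have hO : o2 F ≤ T := o2_le_syl hT
    have hcO : cj f (o2 F) = o2 F := cj_eq_of_mem_normalizer (Cfsg.Agent.MinSimple.VModule.le_normalizer_o2 F hf)
    refine h.noff T hT.2.1 hB f ?_ ?_ x hx y hy
    · have := cj_mono f hV
      rw [hcO] at this
      exact this.trans hO
    · have := cj_mono f hO
      rw [hcO] at this
      exact hV.trans this
  have h1 := OM.Swap.elab_iSup (W := fun f : F => cj (f : G) V) (fun f f' x hx y hy => ?_)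
    fun f x hx => ?_
  · exact OM.Swap.elab_of h1.1 h1.2
  · rw [mem_cj] at hx hy
    have h2 := hcom ((f : G)⁻¹ * f') (mul_mem (inv_mem f.2) f'.2) _ hx _ hy
    have e1 : (f : G)⁻¹ * f' * ((f' : G)⁻¹ * y * f') * ((f : G)⁻¹ * f')⁻¹ = (f : G)⁻¹ * y * f := by group
    rw [e1] at h2
    have h3 := congrArg (fun t => (f : G) * t * (f : G)⁻¹) h2
    have e2 : (f : G) * ((f : G)⁻¹ * x * f * ((f : G)⁻¹ * y * f)) * (f : G)⁻¹ = x * y := by group
    have e3 : (f : G) * ((f : G)⁻¹ * y * f * ((f : G)⁻¹ * x * f)) * (f : G)⁻¹ = y * x := by group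
    exact e2.symm.trans (h3.trans e3)
  · rw [mem_cj] at hx
    have h2 := SQ1.Bau.elem_sq h.elemV _ hx
    rw [pow_two] at h2
    have e : x * x = f * ((f : G)⁻¹ * x * f * ((f : G)⁻¹ * x * f)) * (f : G)⁻¹ := by group
    rw [e, h2]; group

omit h in
/-- `V ≤ ⟨V^F⟩` -/
theorem V_le_VF (V F : Subgroup G) : V ≤ NoFF.Basic.V V F := by
  have h1 := NoFF.Basic.Z_le_V (Z := V) (one_mem F)
  rwa [map_one, one_smul] at h1

/-- **Fixed points do not lift**, from one best offender on `⟨V^F⟩` outside `O₂(F)`. -/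
theorem fix_of_off {T F : Subgroup G} (hT : Syl T F) (hB : BK (S : Subgroup G) Q ≤ T) (hmin : IsMinPar T F)
    (hV : V ≤ o2 F) (hz : F ≤ centralizer (zc T : Set G))
    (hoff : ∃ A ≤ T, Best (NoFF.Basic.V V F) A ∧ ¬ A ≤ o2 F) :
    NoFF.Basic.V V F ⊓ zc (o2 F) ≤ centralizer (oddGen F : Set G) := by
  obtain ⟨A, hAT, hb, hAO⟩ := hoff
  have hOT : o2 F ≤ T := o2_le_syl hT
  have hel := h.elab_VF hT hB hV
  have hc : ∀ x ∈ NoFF.Basic.V V F, ∀ y ∈ NoFF.Basic.V V F, x * y = y * x := fun x hx y hy =>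
    SQ1.Bau.elem_comm hel x hx y hy
  have hb' : Best (NoFF.Basic.V V F ⊓ zc (o2 F)) A := best_of_le hc hb inf_le_left
  have hUO : NoFF.Basic.V V F ⊓ zc (o2 F) ≤ o2 F := inf_le_right.trans (Cfsg.Agent.MinSimple.VModule.zc_le _)
  have hsq : ∀ y ∈ NoFF.Basic.V V F ⊓ zc (o2 F), y ^ 2 = 1 := fun u hu => (mem_zc.1 hu.2).2.1
  have hcom : NoFF.Basic.V V F ⊓ zc (o2 F) ≤
      centralizer ((NoFF.Basic.V V F ⊓ zc (o2 F) : Subgroup G) : Set G) := by
    intro u hu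
    rw [mem_centralizer_iff]
    exact fun v hv => (mem_zc.1 hu.2).2.2 v (mem_zc.1 hv.2).1
  have hN : F ≤ normalizer ((NoFF.Basic.V V F ⊓ zc (o2 F) : Subgroup G) : Set G) :=
    NO3b.K0.norm_inf OmThm.XD.X_le_normalizer_W
      ((Cfsg.Agent.MinSimple.VModule.le_normalizer_o2 F).trans (NO3S.Level.normalizer_le_zc _))
  have hQ : o2 F ≤ centralizer ((NoFF.Basic.V V F ⊓ zc (o2 F) : Subgroup G) : Set G) :=
    (NO3S.Level.le_centralizer_zc _).trans (centralizer_le inf_le_right)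
  refine NO3S.Fld.ff_lemma_off FF.Glob.aStmt hT hmin (hUO.trans (o2_le F)) hsq hcom hN hQ ?_ hAT hAO hb'.toElemM ?_
  · rintro x ⟨hx, hxT⟩
    have hxz : x ∈ zc T := mem_zc.2 ⟨hOT (hUO hx), hsq x hx, fun t ht => mem_centralizer_iff.1 hxT t ht⟩
    rw [mem_centralizer_iff]
    exact fun e he => (mem_centralizer_iff.1 (hz (oddGen_le F he)) x hxz).symm
  · have h2 := hb'.max (A ⊓ centralizer ((NoFF.Basic.V V F ⊓ zc (o2 F) : Subgroup G) : Set G)) inf_le_left le_rfl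
    have e : (NoFF.Basic.V V F ⊓ zc (o2 F)) ⊓
        centralizer ((A ⊓ centralizer ((NoFF.Basic.V V F ⊓ zc (o2 F) : Subgroup G) : Set G) :
        Subgroup G) : Set G) = NoFF.Basic.V V F ⊓ zc (o2 F) :=
      inf_eq_left.2 (le_centralizer_iff.1 inf_le_right)
    rw [e, mul_comm] at h2
    exact h2

/-- the fixed point property of quiet minimal parabolics -/
theorem fixPt (ho : OffR S V Q) (T Y : Subgroup G)
    (hq : Quiet (nxt (S : Subgroup G) Q) (BK (S : Subgroup G) Q) T Y) :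
    ZK (S : Subgroup G) Q ⊓ zc (o2 Y) ≤ centralizer (oddGen Y : Set G) := by
  have hKT := h.lb.KB.trans hq.BT
  by_cases hQ : Q ≤ o2 Y
  · exact inf_le_right.trans (h.wl.fixPt hq.syl hKT hq.min hQ hq.nK hq.cz)
  by_cases hj : jj (S : Subgroup G) ≤ o2 Y
  · by_cases hmv : oddGen Y ≤ centralizer (ZK (S : Subgroup G) Q : Set G)
    · exact inf_le_left.trans (le_centralizer_iff.1 hmv)
    · obtain ⟨g, hg, -, hz⟩ := h.exists_cj hq.syl.2.1 hq.BT
      have hV := h.V_le_o2 hq.syl.2.1 hq.BT hq.min.le hq.cz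
      have hoff := h.off ho hq.syl hq.BT hq.min hq.c2 (hq.cz.trans (centralizer_le hz)) hj hQ hmv
      exact (inf_le_inf_right _ (h.ZV.trans (V_le_VF V Y))).trans
        (h.fix_of_off hq.syl hq.BT hq.min hV hq.cz hoff)
  · exact inf_le_right.trans (OM.LevD.fixPt_neg S hq.syl (h.jB.trans hq.BT) hq.min hj hq.cz)

/-- **The `q`-free ground frame.** -/
theorem crB (ho : OffR S V Q) :
    CrB S (nxt (S : Subgroup G) Q) (BK (S : Subgroup G) Q) V (ZK (S : Subgroup G) Q) where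
  lb := h.lb
  wc := h.wcB
  zcS := h.zcS
  VB := h.VB
  nV := fun _ hg => h.nV hg
  char2 := h.char2
  low := h.low
  noff := h.noff
  fixPt := h.fixPt ho

/-- **The families of offenders of the pairs.** -/
theorem fam (ho : OffR S V Q) {M T F : Subgroup G}
    (hp : Pair (nxt (S : Subgroup G) Q) (BK (S : Subgroup G) Q) V (ZK (S : Subgroup G) Q) M T F)
    (hD : centralizer (ZK (S : Subgroup G) Q : Set G) ≤ M)
    (hZM : normalizer (ZK (S : Subgroup G) Q : Set G) ≤ M) (hTM : T ≤ M) :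
    ∃ 𝓐 : Set (Subgroup G), FmX (BK (S : Subgroup G) Q) V T F
      (fun X => (∀ a ∈ X, ∀ v ∈ V, a * v = v * a) ∨ Best V X) 𝓐 := by
  classical
  have hb := h.crB ho
  have hT2 := hp.syl.2.1
  have hKT : nxt (S : Subgroup G) Q ≤ T := h.lb.KB.trans hp.BT
  have h0T : jj (S : Subgroup G) ≤ T := h.jB.trans hp.BT
  have hmp : IsMinPar T F := hb.pair_min hp hZM
  have hnK := hb.pair_nK hp hZM
  have hV : V ≤ o2 F := hp.VO
  have hel := hb.elab_Lam h.elemV hp
  have hcF : F ⊓ centralizer (o2 F : Set G) ≤ o2 F := by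
    obtain ⟨T₀, Y, hq, -, hFY, hO⟩ := hp.org
    exact (inf_le_inf hFY (centralizer_le hO)).trans (hq.c2.trans hO)
  by_cases hj : jj (S : Subgroup G) ≤ o2 F
  swap
  · -- stage `-1`
    have hjT : jj T = jj (S : Subgroup G) := MinSimple.EmptyTI.jj_eq S hT2 h0T
    have hX2 : ∀ X ∈ AA F, X ≤ T → X ≤ Q := fun X hX hXT => by
      have h1 := le_jj (OM.Swap.AA_of_le hX hXT hp.syl.1)
      rw [hjT] at h1
      exact h1.trans h.wl.lev.jjle
    refine ⟨AA F, fun Λ hΛ hΛF hn _ => fm_AA hΛ hΛF hn, ?_, fun X hX hXT => (hX2 X hX hXT).trans h.QB,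
      fun X hX hXT => Or.inl fun a ha v hv => h.cV (hX2 X hX hXT ha) hv⟩
    by_contra hcon
    push Not at hcon
    apply hj
    rw [← hjT, Cfsg.Agent.ZN.ChoiceBase.jj_eq]
    exact sSup_le fun X hX => hcon X (OM.Swap.AA_of_syl hp.syl hX) hX.2.1
  by_cases hQ : Q ≤ o2 F
  · -- the top stage
    have hX := OM.SwapL.zc_elab Q
    have hFN : F ≤ normalizer (zc Q : Set G) :=
      (Cfsg.Agent.MinSimple.VModule.le_normalizer_o2 F).trans
        ((h.wl.norm_T (isPGroup_o2 F) hQ).trans (NO3S.Level.normalizer_le_zc _))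
    have hX1 : ∀ X ∈ BF F (zc Q), X ≤ T → X ≤ nxt (S : Subgroup G) Q := fun X hXA hXT =>
      h.wl.le_nxt_of_best hT2 hKT hXT hXA.2.2
    refine ⟨BF F (zc Q), fun Λ hΛ hΛF hn hle => fm_best hX hFN ?_ hn, ?_,
      fun X hXA hXT => (hX1 X hXA hXT).trans h.lb.KB, fun X hXA hXT => Or.inr (by rw [← h.zcQ]; exact hXA.2.2)⟩
    · refine hle.trans (NoFF.Basic.V_le fun f hf => ?_)
      have h1 := cj_mono f h.zcQ.ge
      rwa [cj_eq_of_mem_normalizer (hFN hf)] at h1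
    · by_contra hcon
      push Not at hcon
      apply hnK
      rw [← h.wl.nxt_T hT2 hKT]
      have : Fact (Nat.Prime 2) := ⟨Nat.prime_two⟩
      have hNn : F ≤ normalizer ((F ⊓ centralizer (zc Q : Set G) : Subgroup G) : Set G) := by
        intro f hf
        rw [mem_normalizer_iff_cj, cj_inf, cj_centralizer, cj_eq_of_mem_normalizer (hFN hf),
          cj_eq_of_mem_normalizer (le_normalizer hf)]
      refine sup_le ?_ (sSup_le fun X hX' => hcon X ⟨hX'.1.trans hp.syl.1, hT2.to_le hX'.1, hX'.2⟩ hX'.1)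
      rcases hmp.sup_eq_or_inf_le (p := 2) hT2 (syl_not_dvd hp.syl)
        (N := F ⊓ centralizer (zc Q : Set G)) inf_le_left hNn with h1 | h1
      · exfalso
        apply hp.nM
        rw [← h1]
        refine sup_le ((inf_le_right.trans (centralizer_le ?_)).trans hD) hTM
        have h2 : ZK (S : Subgroup G) Q ≤ zc Q := by rw [h.zcQ]; exact h.ZV
        exact_mod_cast h2
      · refine le_trans (fun x hx => ?_) h1
        exact ⟨hx.1, hp.syl.1 hx.1, hx.2⟩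
  · -- below the top
    obtain ⟨T₀, Y, hq, -, hFY, hO⟩ := hp.org
    obtain ⟨g, hg, -, hz⟩ := h.exists_cj hq.syl.2.1 hq.BT
    have hFz : F ≤ centralizer (cj g (zc (S : Subgroup G)) : Set G) := hFY.trans (hq.cz.trans (centralizer_le hz))
    have hmv : ¬ oddGen F ≤ centralizer (ZK (S : Subgroup G) Q : Set G) := by
      intro hle
      apply hp.nM
      rw [← OM.Dich.oddGen_sup_syl hp.syl]
      exact sup_le (hle.trans hD) hTM
    obtain ⟨A, hA, hbA, hn⟩ := h.off ho hp.syl hp.BT hmp hcF hFz hj hQ hmv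
    have hc : ∀ x ∈ NoFF.Basic.V V F, ∀ y ∈ NoFF.Basic.V V F, x * y = y * x := fun x hx y hy =>
      SQ1.Bau.elem_comm hel x hx y hy
    refine ⟨BF F (NoFF.Basic.V V F), fun Λ _ _ hn hle => fm_best hel OmThm.XD.X_le_normalizer_W hle hn,
      ⟨A, ⟨hA.trans hp.syl.1, hT2.to_le hA, hbA⟩, hA, hn⟩, fun X hX hXT => ?_, fun X hX hXT => ?_⟩
    · have h1 : Best (zc Q) X := best_of_le hc hX.2.2 (by rw [h.zcQ]; exact V_le_VF V F)
      exact (h.wl.le_nxt_of_best hT2 hKT hXT h1).trans h.lb.KB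
    · exact Or.inr (best_of_le hc hX.2.2 (V_le_VF V F))

end LtV

end Cfsg.Agent.Omega.NOThreeL.QWR.Sw

end

section


/-!
# THEOREM SW at the top level `(Q, V)`, `q = 2`: the abstract frame `CrA`

* `LtV.norm` : `N_G(B)` permutes the `Z i`;
* **`LtV.crA`** : `FrL (BK S Q) Q V V (ZK S Q) L W Z C A 2` and `OffR S V Q` give
  `CrA S (nxt S Q) (BK S Q) V (ZK S Q) L W Z C A`.
-/

set_option autoImplicit false
set_option linter.unusedSectionVars false

namespace Cfsg.Agent.Omega.NOThreeL.QWR.Sw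

open Subgroup Cfsg Cfsg.Agent.ZN.ChoiceBase Cfsg.Agent.ZN.ChoiceSit
open Cfsg.Agent.ZN (jj zj bau zc zl o2)
open Cfsg.Agent.Omega.NO3S.Level (nxt)
open Cfsg.Agent.Omega.OM.SwapK (BK ZK)
open Cfsg.Agent.Omega.OM.SwapV (Quiet Pair CrA PF)
open Cfsg.Agent.Omega.OM.Lev.Uni (FrL)

universe u

variable {G : Type u} [Group G] [Finite G] {S : Sylow 2 G} {V Q : Subgroup G}
  {ι : Type} [Finite ι] {L W Z C A : ι → Subgroup G}

namespace LtV

variable (h : LtV S V Q)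
include h

/-- **(U1)**, any `q` -/
theorem norm {q : ℕ} (fr : FrL (BK (S : Subgroup G) Q) Q V V (ZK (S : Subgroup G) Q) L W Z C A q) {g : G}
    (hg : g ∈ normalizer (BK (S : Subgroup G) Q : Set G)) :
    cj g V = V ∧ ∀ i, ∃ j, cj g (Z i) = Z j ∧ cj g (W i) ≤ W j ⊔ ZK (S : Subgroup G) Q :=
  fr.norm_of hg (mem_normalizer_iff_cj.2 (h.nV hg))

/-- **The abstract frame of THEOREM SW at the top level.** -/
theorem crA (fr : FrL (BK (S : Subgroup G) Q) Q V V (ZK (S : Subgroup G) Q) L W Z C A 2) (ho : OffR S V Q) :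
    CrA S (nxt (S : Subgroup G) Q) (BK (S : Subgroup G) Q) V (ZK (S : Subgroup G) Q) L W Z C A where
  lb := h.lb
  wc := h.wcB
  zcS := h.zcS
  zcB := fr.zcB
  blk := fr.blk
  cardZ := fr.cardZ
  el := fr.el
  VB := h.VB
  ZJV := fr.ZJV
  WV := fr.WV
  CV := fr.CV
  dir := fr.dir
  C0 := fr.C0
  WjC := fr.WjC
  split := fun i _ hz => fr.split_ZJ i hz
  LC := fr.LC
  mov := fun i => by
    have h2 := fr.Ane i
    push Not at h2
    obtain ⟨a, ha, v, hv, hne⟩ := h2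
    exact ⟨a, fr.AB i ha, ⟨v, hv, hne⟩, fr.AC i a ha⟩
  conjZ := fun r _ hx => OM.SwapL.conj_ZJ fr r hx
  norm := fun _ hg => h.norm fr hg
  char2 := h.char2
  low := h.low
  noff := h.noff
  fixPt := h.fixPt ho
  fam := fun M T F hp hD hZM hTM => by
    obtain ⟨𝓐, hA⟩ := h.fam ho hp hD hZM hTM
    refine ⟨𝓐, hA.fam, hA.nJ, hA.XB, fun X hX hXT i hi => ?_⟩
    rcases hA.act X hX hXT with h1 | h1
    · obtain ⟨a, ha, x, hx, hne⟩ := hi
      exact absurd (h1 a ha x (fr.WV i hx)) hne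
    · exact OM.SwapL.hat fr (hA.XB X hX hXT) (fun F' h2 h3 => h1.max F' h3 h2) hi
  WC := fr.WC
  AB := fr.AB
  Ane := fr.Ane
  AC := fr.AC
  fmem := fun _ hv hA => fr.mem_ZJ_of hv hA
  fnWr := fun _ _ hi _ hl _ hx => OM.SwapL.nWr fr hi hl hx
  fstep := fun i _ hv => OM.SwapL.step fr i hv
  fkeep := fun _ _ hij _ hl _ hv hj => OM.SwapL.keep fr hij hl hv hj

end LtV

end Cfsg.Agent.Omega.NOThreeL.QWR.Sw

end

section


/-!
# THEOREM SW at the top level `(Q, V)`, `q ≥ 4`: the ground frame `Gr`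

* `LtV.famQ` : the families of offenders of the pairs `PairV` of characteristic 2;
* **`LtV.abQ`** : `FrL (BK S Q) Q V V (ZK S Q) L W Z C A q`, `OffR S V Q`, `perm` and the coordinates give `AbQ`, so `Gr`.
-/

set_option autoImplicit false
set_option linter.unusedSectionVars false

namespace Cfsg.Agent.Omega.NOThreeL.QWR.Sw

open Subgroup Cfsg Cfsg.Agent.ZN.ChoiceBase Cfsg.Agent.ZN.ChoiceSit
open Cfsg.Agent.ZN (jj zj bau zc zl o2)
open Cfsg.Agent.MinSimple.MinParabolic (IsMinPar)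
open Cfsg.Agent.MinSimple.VModule (oddGen oddGen_le)
open Cfsg.Agent.Omega.NO1.BestOff (Best)
open Cfsg.Agent.Omega.NO3S.Level (lev Lev lev_isLev BO nxt)
open Cfsg.Agent.Omega.OM.LevD (LB)
open Cfsg.Agent.Omega.OM.SwapK (WL BK ZK best_of_le)
open Cfsg.Agent.Omega.OM.Swap.Fam (Fm BF fm_AA fm_best)
open Cfsg.Agent.Omega.OM.SwapV.Q (PairV Cor Gr pair_nK pair_minPar)
open Cfsg.Agent.Omega.OM.Lev.Uni (FrL)

universe u

variable {G : Type u} [Group G] [Finite G]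

omit [Finite G] in
theorem comm_of_odd {x r : G} {R : Subgroup G} (hR : IsPGroup 2 R) (ho : Odd (orderOf x))
    (hc : x * r * x⁻¹ * r⁻¹ ∈ R) (hcx : x * (x * r * x⁻¹ * r⁻¹) = (x * r * x⁻¹ * r⁻¹) * x) : x * r = r * x := by
  set c := x * r * x⁻¹ * r⁻¹ with hcd
  have hxr : x * r = c * r * x := by rw [hcd]; group
  have key : ∀ k : ℕ, x ^ k * r = c ^ k * r * x ^ k := by
    intro k
    induction k with
    | zero => simp
    | succ k ih =>
      have hck : x * c ^ k = c ^ k * x := (show Commute x c from hcx).pow_right k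
      calc x ^ (k + 1) * r = x * (x ^ k * r) := by rw [pow_succ', mul_assoc]
        _ = x * c ^ k * r * x ^ k := by rw [ih]; simp only [mul_assoc]
        _ = c ^ k * (x * r) * x ^ k := by rw [hck]; simp only [mul_assoc]
        _ = c ^ (k + 1) * r * x ^ (k + 1) := by rw [hxr, pow_succ, pow_succ']; simp only [mul_assoc]
  have h1 := key (orderOf x)
  rw [pow_orderOf_eq_one, one_mul, mul_one] at h1
  have h2 : c ^ orderOf x = 1 := by
    have h3 := congrArg (fun t => t * r⁻¹) h1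
    simpa using h3.symm
  have h4 : orderOf c ∣ orderOf x := orderOf_dvd_of_pow_eq_one h2
  obtain ⟨m, hm⟩ := hR ⟨c, hc⟩
  have hm' : c ^ 2 ^ m = 1 := by
    have := congrArg Subtype.val hm
    simpa using this
  have h5 : orderOf c ∣ 2 ^ m := orderOf_dvd_of_pow_eq_one hm'
  have h6 : Nat.Coprime (orderOf x) (2 ^ m) := Nat.Coprime.pow_right m (Nat.Coprime.symm (by
    rw [Nat.coprime_two_left]; exact ho))
  have h7 : orderOf c = 1 := Nat.eq_one_of_dvd_coprimes h6 h4 h5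
  rw [orderOf_eq_one_iff] at h7
  rw [hxr, h7, one_mul]

theorem isPGroup_of_odd {X : Subgroup G} (h : ∀ x ∈ X, Odd (orderOf x) → x = 1) : IsPGroup 2 X := by
  rintro ⟨x, hx⟩
  obtain ⟨k, m, hm, he⟩ := Nat.exists_eq_two_pow_mul_odd (n := orderOf x) (orderOf_pos x).ne'
  refine ⟨k, Subtype.ext ?_⟩
  have h1 : orderOf (x ^ 2 ^ k) = m := by
    rw [orderOf_pow, he]
    have : Nat.gcd (2 ^ k * m) (2 ^ k) = 2 ^ k := by simp
    rw [this, Nat.mul_div_cancel_left m (by positivity)]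
  have h2 := h (x ^ 2 ^ k) (pow_mem hx _) (by rw [h1]; exact hm)
  simpa using h2

omit [Finite G] in
theorem eq_one_of_odd {X : Subgroup G} (h : IsPGroup 2 X) {x : G} (hx : x ∈ X) (ho : Odd (orderOf x)) : x = 1 := by
  obtain ⟨m, hm⟩ := h ⟨x, hx⟩
  have hm' : x ^ 2 ^ m = 1 := by
    have := congrArg Subtype.val hm
    simpa using this
  have h5 : orderOf x ∣ 2 ^ m := orderOf_dvd_of_pow_eq_one hm'
  have h6 : Nat.Coprime (orderOf x) (2 ^ m) := Nat.Coprime.pow_right m (Nat.Coprime.symm (by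
    rw [Nat.coprime_two_left]; exact ho))
  exact orderOf_eq_one_iff.1 (Nat.eq_one_of_dvd_coprimes h6 dvd_rfl h5)

namespace LtV

variable {S : Sylow 2 G} {V Q : Subgroup G} (h : LtV S V Q)
include h

/-- `F` has characteristic 2. -/
theorem c2_of (hV1 : V ≠ ⊥) {T F : Subgroup G} (hT : Syl T F) (hB : BK (S : Subgroup G) Q ≤ T) (hV : V ≤ o2 F) :
    F ⊓ centralizer (o2 F : Set G) ≤ o2 F := by
  have hV2 : IsPGroup 2 V := (isPGroup_o2 F).to_le hV
  have hc := OM.Swap.char2_cent h.char2 hV2 hV1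
  set R := o2 (centralizer (V : Set G)) with hR
  have hR2 : IsPGroup 2 R := isPGroup_o2 _
  have hRV : R ≤ centralizer (V : Set G) := o2_le _
  -- `R ≤ B`
  have hSV : (S : Subgroup G) ≤ normalizer (V : Set G) := fun s hs =>
    mem_normalizer_iff_cj.2 (h.nV (h.lb.two_le S.isPGroup' h.lb.BS hs))
  have hSR : (S : Subgroup G) ≤ normalizer (R : Set G) := fun s hs => by
    rw [mem_normalizer_iff_cj, hR, ← o2_cj, cj_centralizer, cj_eq_of_mem_normalizer (hSV hs)]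
  have hRS : R ≤ (S : Subgroup G) := by
    have h1 : IsPGroup 2 ((S : Subgroup G) ⊔ R : Subgroup G) := S.isPGroup'.to_sup_of_normal_right' hR2 hSR
    have h2 := S.is_maximal' h1 le_sup_left
    exact le_sup_right.trans h2.le
  have hRB : R ≤ BK (S : Subgroup G) Q := le_inf hRS (hRV.trans (centralizer_le h.ZV))
  have hRF : R ≤ F := (hRB.trans hB).trans hT.1
  -- `N = C_F(O₂(F))`
  set N := F ⊓ centralizer (o2 F : Set G) with hN
  have hFN : F ≤ normalizer (N : Set G) := fun f hf => by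
    rw [mem_normalizer_iff_cj, hN, cj_inf, cj_eq_of_mem_normalizer (le_normalizer hf), cj_centralizer,
      cj_eq_of_mem_normalizer (Cfsg.Agent.MinSimple.VModule.le_normalizer_o2 F hf)]
  have hNV : N ≤ centralizer (V : Set G) := inf_le_right.trans (centralizer_le hV)
  have hNR : N ≤ normalizer (R : Set G) := hNV.trans (Cfsg.Agent.MinSimple.VModule.le_normalizer_o2 _)
  -- `R ∩ N ≤ O₂(F)`
  have hRN : R ⊓ N ≤ o2 F := by
    have h1 : R ⊓ N ≤ o2 N := le_o2 (hR2.to_le inf_le_left) inf_le_right fun y hy => by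
      rw [mem_normalizer_iff_cj, cj_inf, cj_eq_of_mem_normalizer (hNR hy), cj_eq_of_mem_normalizer (le_normalizer hy)]
    have h2 : o2 N ≤ o2 F := le_o2 (isPGroup_o2 N) ((o2_le N).trans inf_le_left) fun f hf => by
      rw [mem_normalizer_iff_cj, ← o2_cj, cj_eq_of_mem_normalizer (hFN hf)]
    exact h1.trans h2
  refine le_o2 (isPGroup_of_odd fun x hx ho => ?_) inf_le_left hFN
  have hxR : x ∈ centralizer (R : Set G) := by
    rw [mem_centralizer_iff]
    intro r hr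
    have hcR : x * r * x⁻¹ * r⁻¹ ∈ R := mul_mem ((mem_normalizer_iff.1 (hNR hx) r).1 hr) (inv_mem hr)
    have hcN : x * r * x⁻¹ * r⁻¹ ∈ N := by
      have h1 : r * x⁻¹ * r⁻¹ ∈ N := (mem_normalizer_iff.1 (hFN (hRF hr)) x⁻¹).1 (inv_mem hx)
      have h2 := mul_mem hx h1
      have e : x * (r * x⁻¹ * r⁻¹) = x * r * x⁻¹ * r⁻¹ := by group
      rwa [e] at h2
    have h3 := hRN ⟨hcR, hcN⟩
    exact (comm_of_odd hR2 ho hcR (mem_centralizer_iff.1 hx.2 _ h3).symm).symm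
  have h4 : x ∈ R := hc ⟨hNV hx, hxR⟩
  exact eq_one_of_odd hR2 h4 ho

/-- a pair lies in `C_G(Ω₁Z(S)^g)`, `g ∈ N_G(B)` -/
theorem pairV_le {M T F : Subgroup G} (hp : PairV (BK (S : Subgroup G) Q) V (ZK (S : Subgroup G) Q) M T F) :
    ∃ g ∈ normalizer (BK (S : Subgroup G) Q : Set G), F ≤ centralizer (cj g (zc (S : Subgroup G)) : Set G) := by
  obtain ⟨g, hg, -, hz⟩ := h.exists_cj hp.syl.2.1 hp.BT
  refine ⟨g, hg, le_centralizer_iff.1 (le_trans (le_inf ?_ ?_) hp.fix)⟩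
  · have h1 := cj_mono g h.zcS
    rwa [h.nZK hg] at h1
  · intro x hx
    exact mem_centralizer_iff.2 fun y hy => (mem_zc.1 (hz hx)).2.2 y (o2_le_syl hp.syl hy)

/-- **The families of offenders of the pairs `PairV`.** -/
theorem famQ (ho : OffR S V Q) {M T F : Subgroup G}
    (hp : PairV (BK (S : Subgroup G) Q) V (ZK (S : Subgroup G) Q) M T F)
    (hcF : F ⊓ centralizer (o2 F : Set G) ≤ o2 F)
    (hD : centralizer (ZK (S : Subgroup G) Q : Set G) ≤ M) (hTM : T ≤ M)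
    (hZM : normalizer (ZK (S : Subgroup G) Q : Set G) ≤ M) :
    ∃ 𝓐 : Set (Subgroup G),
      (∀ Λ : Subgroup G, IsElementaryAbelian 2 Λ → Λ ≤ F → F ≤ normalizer (Λ : Set G) →
        Λ ≤ NoFF.Basic.V V F → Fm F Λ 𝓐) ∧
      (∃ E ∈ 𝓐, E ≤ T ∧ ¬ E ≤ o2 F) ∧
      ∀ E ∈ 𝓐, E ≤ T → E ≤ BK (S : Subgroup G) Q ∧
        ((∀ a ∈ E, ∀ v ∈ V, a * v = v * a) ∨ OM.Lev.Uni.Best V E) := by
  classical
  have hT2 := hp.syl.2.1
  have hKT : nxt (S : Subgroup G) Q ≤ T := h.lb.KB.trans hp.BT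
  have h0T : jj (S : Subgroup G) ≤ T := h.jB.trans hp.BT
  have hmp : IsMinPar T F := pair_minPar h.lb hp hZM
  have hnK := pair_nK h.lb hp hZM
  have hel := h.elab_VF hp.syl hp.BT hp.VO
  have hBe : ∀ {U E : Subgroup G}, Best U E → OM.Lev.Uni.Best U E := fun hb F' h1 h2 => hb.max F' h2 h1
  by_cases hj : jj (S : Subgroup G) ≤ o2 F
  swap
  · -- stage `-1`
    have hjT : jj T = jj (S : Subgroup G) := MinSimple.EmptyTI.jj_eq S hT2 h0T
    have hX2 : ∀ X ∈ AA F, X ≤ T → X ≤ Q := fun X hX hXT => by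
      have h1 := le_jj (OM.Swap.AA_of_le hX hXT hp.syl.1)
      rw [hjT] at h1
      exact h1.trans h.wl.lev.jjle
    refine ⟨AA F, fun Λ hΛ hΛF hn _ => fm_AA hΛ hΛF hn, ?_, fun X hX hXT => ⟨(hX2 X hX hXT).trans h.QB,
      Or.inl fun a ha v hv => h.cV (hX2 X hX hXT ha) hv⟩⟩
    by_contra hcon
    push Not at hcon
    apply hj
    rw [← hjT, Cfsg.Agent.ZN.ChoiceBase.jj_eq]
    exact sSup_le fun X hX => hcon X (OM.Swap.AA_of_syl hp.syl hX) hX.2.1
  by_cases hQ : Q ≤ o2 F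
  · -- the top stage
    have hX := OM.SwapL.zc_elab Q
    have hFN : F ≤ normalizer (zc Q : Set G) :=
      (Cfsg.Agent.MinSimple.VModule.le_normalizer_o2 F).trans
        ((h.wl.norm_T (isPGroup_o2 F) hQ).trans (NO3S.Level.normalizer_le_zc _))
    have hX1 : ∀ X ∈ BF F (zc Q), X ≤ T → X ≤ nxt (S : Subgroup G) Q := fun X hXA hXT =>
      h.wl.le_nxt_of_best hT2 hKT hXT hXA.2.2
    refine ⟨BF F (zc Q), fun Λ hΛ hΛF hn hle => fm_best hX hFN ?_ hn, ?_,
      fun X hXA hXT => ⟨(hX1 X hXA hXT).trans h.lb.KB, Or.inr (hBe (by rw [← h.zcQ]; exact hXA.2.2))⟩⟩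
    · refine hle.trans (NoFF.Basic.V_le fun f hf => ?_)
      have h1 := cj_mono f h.zcQ.ge
      rwa [cj_eq_of_mem_normalizer (hFN hf)] at h1
    · by_contra hcon
      push Not at hcon
      apply hnK
      rw [← h.wl.nxt_T hT2 hKT]
      have : Fact (Nat.Prime 2) := ⟨Nat.prime_two⟩
      have hNn : F ≤ normalizer ((F ⊓ centralizer (zc Q : Set G) : Subgroup G) : Set G) := by
        intro f hf
        rw [mem_normalizer_iff_cj, cj_inf, cj_centralizer, cj_eq_of_mem_normalizer (hFN hf),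
          cj_eq_of_mem_normalizer (le_normalizer hf)]
      refine sup_le ?_ (sSup_le fun X hX' => hcon X ⟨hX'.1.trans hp.syl.1, hT2.to_le hX'.1, hX'.2⟩ hX'.1)
      rcases hmp.sup_eq_or_inf_le (p := 2) hT2 (syl_not_dvd hp.syl)
        (N := F ⊓ centralizer (zc Q : Set G)) inf_le_left hNn with h1 | h1
      · exfalso
        apply hp.nM
        rw [← h1]
        refine sup_le ((inf_le_right.trans (centralizer_le ?_)).trans hD) hTM
        have h2 : ZK (S : Subgroup G) Q ≤ zc Q := by rw [h.zcQ]; exact h.ZV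
        exact_mod_cast h2
      · refine le_trans (fun x hx => ?_) h1
        exact ⟨hx.1, hp.syl.1 hx.1, hx.2⟩
  · -- below the top
    obtain ⟨g, hg, hFz⟩ := h.pairV_le hp
    have hmv : ¬ oddGen F ≤ centralizer (ZK (S : Subgroup G) Q : Set G) := by
      intro hle
      apply hp.nM
      rw [← OM.Dich.oddGen_sup_syl hp.syl]
      exact sup_le (hle.trans hD) hTM
    obtain ⟨A, hA, hbA, hn⟩ := h.off ho hp.syl hp.BT hmp hcF hFz hj hQ hmv
    have hc : ∀ x ∈ NoFF.Basic.V V F, ∀ y ∈ NoFF.Basic.V V F, x * y = y * x := fun x hx y hy =>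
      SQ1.Bau.elem_comm hel x hx y hy
    refine ⟨BF F (NoFF.Basic.V V F), fun Λ _ _ hn hle => fm_best hel OmThm.XD.X_le_normalizer_W hle hn,
      ⟨A, ⟨hA.trans hp.syl.1, hT2.to_le hA, hbA⟩, hA, hn⟩, fun X hX hXT => ⟨?_, ?_⟩⟩
    · have h1 : Best (zc Q) X := best_of_le hc hX.2.2 (by rw [h.zcQ]; exact V_le_VF V F)
      exact (h.wl.le_nxt_of_best hT2 hKT hXT h1).trans h.lb.KB
    · exact Or.inr (hBe (best_of_le hc hX.2.2 (V_le_VF V F)))

section fr

variable {ι : Type} [Finite ι] {L W Z C A : ι → Subgroup G} {q : ℕ}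

omit h in
theorem V_ne [Nonempty ι] {B Q V X ZJ : Subgroup G} (fr : FrL B Q V X ZJ L W Z C A q) : V ≠ ⊥ := by
  obtain ⟨i⟩ := ‹Nonempty ι›
  intro e
  have h1 := (fr.blk i).card
  have h2 : W i = ⊥ := by rw [eq_bot_iff, ← e]; exact fr.WV i
  have h3 : Z i = ⊥ := by rw [eq_bot_iff, ← h2]; exact (fr.blk i).ZV
  rw [h2, h3, Subgroup.card_bot] at h1
  have := (fr.blk i).one
  omega

/-- **The frame `AbQ` (so the ground frame `Gr`) at the top level.** -/
theorem abQ [Nonempty ι] (fr : FrL (BK (S : Subgroup G) Q) Q V V (ZK (S : Subgroup G) Q) L W Z C A q)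
    (ho : OffR S V Q)
    (perm : ∀ s ∈ (S : Subgroup G), ∀ i j, cj s (Z i) = Z j → cj s (W i) = W j ∧ cj s (C i) = C j)
    (co : ∀ i, ∃ (F : Type) (_ : Field F) (_ : Finite F) (_ : CharP F 2), Nat.card F = q ∧
      ∃ e : G → F × F, Cor F (S : Subgroup G) (BK (S : Subgroup G) Q) L W Z i e) :
    AbQ S (nxt (S : Subgroup G) Q) (BK (S : Subgroup G) Q) V (ZK (S : Subgroup G) Q) V Q L W Z C A q where
  lb := h.lb
  wc := h.wcB
  nX := fun _ hg => mem_normalizer_iff_cj.2 (h.nV hg)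
  fr := fr
  char2 := h.char2
  low := h.low
  noff := h.noff
  perm := perm
  co := co
  fixPt := h.fixPt ho
  fam := fun _ _ _ hp hD hTM hZM => h.famQ ho hp (h.c2_of (V_ne fr) hp.syl hp.BT hp.VO) hD hTM hZM

end fr

end LtV

end Cfsg.Agent.Omega.NOThreeL.QWR.Sw

end
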